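import Groth.Agent.ParaDesc24.Sections

/-!
# Parafactoriality descends along flat surjective quasi-compact morphisms
-/

set_option autoImplicit false
set_option backward.isDefEq.respectTransparency false
set_option backward.isDefEq.respectTransparency.types false
set_option linter.style.haveILetI false

universe u

open CategoryTheory CategoryTheory.Limits AlgebraicGeometry TopologicalSpace

namespace Groth.Agent.ParaDesc24

theorem isParafactorialPair_of_flat_descent {X X' : Scheme.{u}} (f : X' ⟶ X) [Flat f] [Surjective f]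
    (Y : Closeds X) (hU : QuasiCompact (X.homOfLE (le_top : Y.compl ≤ ⊤)))
    (h : ParaF.IsParafactorialPair X' (ParaF.closedsPreimage f Y)) : ParaF.IsParafactorialPair X Y := by
  haveI : QuasiCompact (Scheme.Opens.ι Y.compl) := by
    haveI := hU
    haveI : QuasiCompact (⊤ : X.Opens).ι := by
      rw [show (⊤ : X.Opens).ι = X.topIso.hom from X.topIso_hom.symm]
      infer_instance
    rw [← Scheme.homOfLE_ι X (le_top : Y.compl ≤ ⊤)]
    exact MorphismProperty.comp_mem (W := @QuasiCompact) _ _ hU inferInstance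
  have hpre : (ParaF.closedsPreimage f Y).compl = f ⁻¹ᵁ Y.compl := rfl
  have hsec' : ∀ V : X'.Opens, Function.Bijective
      (X'.presheaf.map (homOfLE (inf_le_left : V ⊓ f ⁻¹ᵁ Y.compl ≤ V)).op) :=
    fun V => ParaFX.bijective_of_pair _ h V
  have hsec : ∀ V : X.Opens, Function.Bijective
      (X.presheaf.map (homOfLE (inf_le_left : V ⊓ Y.compl ≤ V)).op) :=
    bijective_of_affine Y.compl (fun W hW => bijective_affine_of_flat_cover f Y.compl hsec' W hW)
  refine (ParaFX.isParafactorialPair_iff Y).2 ⟨hsec, fun V L hL => ?_⟩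
  let j := X.homOfLE (inf_le_left : V ⊓ Y.compl ≤ V)
  haveI : QuasiCompact j := by
    have hp : IsPullback j (X.homOfLE (inf_le_right : V ⊓ Y.compl ≤ Y.compl)) V.ι (Scheme.Opens.ι Y.compl) := by
      refine (IsOpenImmersion.isPullback _ _ _ _ ?_ ?_).flip
      · rw [Scheme.homOfLE_ι, Scheme.homOfLE_ι]
      · apply TopologicalSpace.Opens.ext
        rw [Scheme.Hom.coe_opensRange, TopologicalSpace.Opens.map_coe, Scheme.Hom.coe_opensRange]
        ext ⟨x, hx⟩
        constructor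
        · rintro ⟨y, hy⟩
          have hx' : x ∈ Y.compl := (show (Scheme.Opens.ι Y.compl).base y = x from hy) ▸ y.2
          exact ⟨⟨x, hx, hx'⟩, Subtype.ext (Scheme.homOfLE_apply _ _)⟩
        · rintro ⟨⟨y, hy⟩, hxy⟩
          exact ⟨⟨y, hy.2⟩, (Scheme.homOfLE_apply _ _).symm.trans (congrArg Subtype.val hxy)⟩
    exact MorphismProperty.of_isPullback hp.flip inferInstance
  let g := f.resLE V (f ⁻¹ᵁ V) le_rfl
  haveI : Surjective g := by
    refine ⟨fun v => ?_⟩
    obtain ⟨x, hx⟩ := f.surjective v.1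
    have hxV : x ∈ f ⁻¹ᵁ V := by show f.base x ∈ V; rw [hx]; exact v.2
    refine ⟨⟨x, hxV⟩, V.ι.isOpenEmbedding.injective ?_⟩
    simp only [g, ← Scheme.Hom.comp_apply, Scheme.Hom.resLE_comp_ι]
    exact hx
  haveI : Flat g := by
    haveI : Flat (g ≫ V.ι) := by
      simp only [g, Scheme.Hom.resLE_comp_ι]; infer_instance
    exact MorphismProperty.of_isPullback (P := @Flat)
      (IsPullback.of_vert_isIso_mono (show CommSq g (𝟙 _) V.ι (g ≫ V.ι) from ⟨(Category.id_comp _).symm⟩)).flip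
      inferInstance
  have hle : f ⁻¹ᵁ V ⊓ f ⁻¹ᵁ Y.compl ≤ f ⁻¹ᵁ (V ⊓ Y.compl) := le_rfl
  let j' := X'.homOfLE (inf_le_left : f ⁻¹ᵁ V ⊓ f ⁻¹ᵁ Y.compl ≤ f ⁻¹ᵁ V)
  let φ : (f ⁻¹ᵁ V ⊓ f ⁻¹ᵁ Y.compl : X'.Opens).toScheme ⟶ (V ⊓ Y.compl : X.Opens).toScheme :=
    f.resLE (V ⊓ Y.compl) (f ⁻¹ᵁ V ⊓ f ⁻¹ᵁ Y.compl) hle
  have hsq : IsPullback φ j' j g := by
    refine IsOpenImmersion.isPullback _ _ _ _ ?_ ?_
    · rw [Scheme.Hom.resLE_map, Scheme.Hom.map_resLE]
    · apply TopologicalSpace.Opens.ext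
      rw [Scheme.Hom.coe_opensRange, TopologicalSpace.Opens.map_coe, Scheme.Hom.coe_opensRange]
      ext ⟨x, hx⟩
      constructor
      · rintro ⟨⟨y, hy⟩, hxy⟩
        have hxy' : y = f.base x := by
          have := congrArg (fun z => (V.ι.base z : X)) hxy
          simp only [j, g, ← Scheme.Hom.comp_apply, Scheme.homOfLE_ι, Scheme.Hom.resLE_comp_ι] at this
          exact this
        subst hxy'
        exact ⟨⟨x, hx, hy.2⟩, Subtype.ext (Scheme.homOfLE_apply _ _)⟩
      · rintro ⟨⟨y, hy⟩, hxy⟩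
        have hxy' : y = x := (Scheme.homOfLE_apply _ _).symm.trans (congrArg Subtype.val hxy)
        subst hxy'
        refine ⟨⟨f.base y, hy.1, hy.2⟩, ?_⟩
        apply V.ι.isOpenEmbedding.injective
        simp only [j, g, ← Scheme.Hom.comp_apply, Scheme.homOfLE_ι, Scheme.Hom.resLE_comp_ι]
        rfl
  obtain ⟨N', hN', ⟨eN⟩⟩ := (h (f ⁻¹ᵁ V)).2 ((Scheme.Modules.pullback φ).obj L)
    (PicClLib.isInvertible_pullback φ hL)
  let eP : (Scheme.Modules.pullback j').obj N' ≅ (Scheme.Modules.pullback φ).obj L :=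
    ((Scheme.Modules.restrictFunctorIsoPullback j').app N').symm ≪≫ eN
  let θ := hsq.isoPullback
  have e1 : θ.inv ≫ φ = pullback.fst j g := hsq.isoPullback_inv_fst
  have e2 : θ.inv ≫ j' = pullback.snd j g := hsq.isoPullback_inv_snd
  let E : (Scheme.Modules.pullback (pullback.fst j g)).obj L ≅
      (Scheme.Modules.pullback (pullback.snd j g)).obj N' :=
    (Scheme.Modules.pullbackCongr e1.symm).app L ≪≫
      ((Scheme.Modules.pullbackComp θ.inv φ).app L).symm ≪≫
      (Scheme.Modules.pullback θ.inv).mapIso eP.symm ≪≫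
      (Scheme.Modules.pullbackComp θ.inv j').app N' ≪≫ (Scheme.Modules.pullbackCongr e2).app N'
  exact (pushforward_invertible j (fun O => (ParaFX.fnBij_homOfLE Y hsec V).app O) g L hL
    ⟨N', hN', ⟨E⟩⟩).1

end Groth.Agent.ParaDesc24
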