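import Groth.Agent.QSepBC24.BaseDescent
import Groth.Agent.FibrePP.Push
import Groth.Agent.H23.PicMul
import Groth.Agent.PicClLib.Basic

/-!
# Invertible modules trivial after a flat cover of a base with `f_* O = O`
-/

set_option autoImplicit false
set_option backward.isDefEq.respectTransparency false
set_option backward.isDefEq.respectTransparency.types false
set_option linter.style.haveILetI false

universe u

open CategoryTheory CategoryTheory.Limits AlgebraicGeometry

namespace Groth.Agent.ParaDesc24

theorem pushforward_invertible {X S S' : Scheme.{u}} (f : X ⟶ S) [QuasiCompact f] [QuasiSeparated f]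
    (hf : ∀ U : S.Opens, Function.Bijective (f.app U)) (g : S' ⟶ S) [Flat g] [Surjective g]
    (L : X.Modules) (hL : PicF.IsInvertible L)
    (hdesc : ∃ N' : S'.Modules, PicF.IsInvertible N' ∧
      Nonempty ((Scheme.Modules.pullback (pullback.fst f g)).obj L ≅ (Scheme.Modules.pullback (pullback.snd f g)).obj N')) :
    PicF.IsInvertible ((Scheme.Modules.pushforward f).obj L) ∧
      IsIso ((Scheme.Modules.pullbackPushforwardAdjunction f).counit.app L) := by
  obtain ⟨N, hN, ⟨e⟩⟩ := QSepBC24.descend f hf g L hL hdesc
  haveI := FibrePP.isIso_unit f hf hN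
  let adj := Scheme.Modules.pullbackPushforwardAdjunction f
  refine ⟨H23.PicMul.isInvertible_of_iso (asIso (adj.unit.app N) ≪≫
    (Scheme.Modules.pushforward f).mapIso e.symm) hN, ?_⟩
  haveI : IsIso (adj.counit.app ((Scheme.Modules.pullback f).obj N)) :=
    IsIso.of_isIso_fac_left (f := (Scheme.Modules.pullback f).map (adj.unit.app N))
      (adj.left_triangle_components N)
  exact (NatTrans.isIso_app_iff_of_iso adj.counit e).2 this

theorem pushforward_invertible_of_trivial {X S S' : Scheme.{u}} (f : X ⟶ S) [QuasiCompact f]
    [QuasiSeparated f] (hf : ∀ U : S.Opens, Function.Bijective (f.app U)) (g : S' ⟶ S) [Flat g]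
    [Surjective g] (L : X.Modules) (hL : PicF.IsInvertible L)
    (htriv : Nonempty ((Scheme.Modules.pullback (pullback.fst f g)).obj L ≅ Coh.structureModule (pullback f g))) :
    PicF.IsInvertible ((Scheme.Modules.pushforward f).obj L) ∧
      IsIso ((Scheme.Modules.pullbackPushforwardAdjunction f).counit.app L) := by
  obtain ⟨e⟩ := htriv
  obtain ⟨e'⟩ := PicClLib.nonempty_pullback_structureModule (pullback.snd f g)
  exact pushforward_invertible f hf g L hL ⟨_, InvX.isInvertible_structureModule, ⟨e ≪≫ e'.symm⟩⟩

end Groth.Agent.ParaDesc24
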