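import Groth.Agent.ParaDesc24.Descend

/-!
# `H⁰(O) = A` descends along faithfully flat families
-/

set_option autoImplicit false
set_option backward.isDefEq.respectTransparency false
set_option backward.isDefEq.respectTransparency.types false
set_option linter.style.haveILetI false

universe u

open CategoryTheory CategoryTheory.Limits AlgebraicGeometry
open scoped TensorProduct
open Groth.Agent.H23 Groth.Agent.H23.TrivBasic
open scoped Groth.Agent.H23.PicMul

namespace Groth.Agent.ParaDesc24

theorem bijective_of_faithful_family {A M : Type u} [CommRing A] [AddCommGroup M] [Module A M]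
    (l : A →ₗ[A] M) {ι : Type*} (B : ι → Type u) [∀ i, CommRing (B i)] [∀ i, Algebra A (B i)]
    [∀ i, Module.Flat A (B i)]
    (hcov : ∀ p : PrimeSpectrum A, ∃ i, ∃ q : PrimeSpectrum (B i),
      PrimeSpectrum.comap (algebraMap A (B i)) q = p)
    (hl : ∀ i, Function.Bijective (l.lTensor (B i))) : Function.Bijective l := by
  have key : ∀ I : Ideal A, (∀ i, I.map (algebraMap A (B i)) = ⊤) → I = ⊤ := by
    intro I hI
    by_contra hne
    obtain ⟨p, hp, hIp⟩ := Ideal.exists_le_maximal I hne
    obtain ⟨i, q, hq⟩ := hcov ⟨p, hp.isPrime⟩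
    apply q.isPrime.ne_top
    refine top_le_iff.mp ((hI i).ge.trans ?_)
    rw [Ideal.map_le_iff_le_comap, show q.asIdeal.comap (algebraMap A (B i)) = p from
      congrArg PrimeSpectrum.asIdeal hq]
    exact hIp
  refine ⟨fun a b hab => ?_, fun m => ?_⟩
  · rw [← sub_eq_zero]
    set c := a - b with hc
    have hlc : l c = 0 := by rw [hc, map_sub, hab, sub_self]
    have h0 : ∀ i, algebraMap A (B i) c = 0 := by
      intro i
      have h1 : (1 : B i) ⊗ₜ[A] c = 0 := (hl i).1 (by rw [LinearMap.lTensor_tmul, hlc, map_zero, TensorProduct.tmul_zero])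
      have h2 := congrArg (TensorProduct.rid A (B i)) h1
      rwa [TensorProduct.rid_tmul, map_zero, Algebra.smul_def, mul_one] at h2
    let J : Ideal A := LinearMap.ker (LinearMap.toSpanSingleton A A c)
    have hJ : J = ⊤ := key J fun i => by
      have hinj : Function.Injective ((LinearMap.toSpanSingleton A (A) c).lTensor (B i)) →
          Subsingleton (B i) := fun hi => by
        refine subsingleton_of_zero_eq_one ?_
        have e : (0 : B i ⊗[A] A) = (1 : B i) ⊗ₜ[A] (1 : A) := hi (by
          rw [map_zero, LinearMap.lTensor_tmul, LinearMap.toSpanSingleton_apply, smul_eq_mul, one_mul]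
          apply (TensorProduct.rid A (B i)).injective
          rw [map_zero, TensorProduct.rid_tmul, Algebra.smul_def, mul_one, h0 i])
        have e2 := congrArg (TensorProduct.rid A (B i)) e
        rwa [map_zero, TensorProduct.rid_tmul, one_smul] at e2
      have hq : Function.Injective ((J.liftQ (LinearMap.toSpanSingleton A A c) le_rfl).lTensor (B i)) :=
        Module.Flat.lTensor_preserves_injective_linearMap _ ((LinearMap.ker_eq_bot.mp (Submodule.ker_liftQ_eq_bot _ _ le_rfl le_rfl)))
      have h3 : (1 : B i) ⊗ₜ[A] (Submodule.Quotient.mk (1 : A) : A ⧸ J) = 0 := hq (by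
        rw [map_zero, LinearMap.lTensor_tmul, Submodule.liftQ_apply, LinearMap.toSpanSingleton_apply,
          smul_eq_mul, one_mul]
        apply (TensorProduct.rid A (B i)).injective
        rw [map_zero, TensorProduct.rid_tmul, Algebra.smul_def, mul_one, h0 i])
      rw [Ideal.eq_top_iff_one]
      have h4 := congrArg (Algebra.TensorProduct.quotIdealMapEquivTensorQuot (B i) J).symm h3
      rw [map_zero] at h4
      rw [← Ideal.Quotient.eq_zero_iff_mem, ← h4]
      exact ((Algebra.TensorProduct.quotIdealMapEquivTensorQuot (B i) J).eq_symm_apply).2 rfl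
    have : (1 : A) ∈ J := hJ ▸ Submodule.mem_top
    simpa [J] using this
  · let Q := M ⧸ LinearMap.range l
    let π : M →ₗ[A] Q := (LinearMap.range l).mkQ
    let J : Ideal A := LinearMap.ker (LinearMap.toSpanSingleton A Q (π m))
    have hJ : J = ⊤ := key J fun i => by
      have hq : Function.Injective ((J.liftQ (LinearMap.toSpanSingleton A Q (π m)) le_rfl).lTensor (B i)) :=
        Module.Flat.lTensor_preserves_injective_linearMap _ ((LinearMap.ker_eq_bot.mp (Submodule.ker_liftQ_eq_bot _ _ le_rfl le_rfl)))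
      have h3 : (1 : B i) ⊗ₜ[A] (Submodule.Quotient.mk (1 : A) : A ⧸ J) = 0 := hq (by
        rw [map_zero, LinearMap.lTensor_tmul, Submodule.liftQ_apply, LinearMap.toSpanSingleton_apply,
          one_smul]
        obtain ⟨z, hz⟩ := (hl i).2 ((1 : B i) ⊗ₜ[A] m)
        have hz' := congrArg (π.lTensor (B i)) hz
        rw [← LinearMap.lTensor_comp_apply, show π.comp l = 0 from LinearMap.range_mkQ_comp l,
          LinearMap.lTensor_zero, LinearMap.zero_apply, LinearMap.lTensor_tmul] at hz'
        exact hz'.symm)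
      rw [Ideal.eq_top_iff_one]
      have h4 := congrArg (Algebra.TensorProduct.quotIdealMapEquivTensorQuot (B i) J).symm h3
      rw [map_zero] at h4
      rw [← Ideal.Quotient.eq_zero_iff_mem, ← h4]
      exact ((Algebra.TensorProduct.quotIdealMapEquivTensorQuot (B i) J).eq_symm_apply).2 rfl
    have h1 : (1 : A) ∈ J := hJ ▸ Submodule.mem_top
    rw [LinearMap.mem_ker, LinearMap.toSpanSingleton_apply, one_smul, Submodule.mkQ_apply,
      Submodule.Quotient.mk_eq_zero] at h1
    exact h1

variable {X X' : Scheme.{u}} {A B : Type u} [CommRing A] [CommRing B] [Algebra A B]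
  {pA : X ⟶ Spec (CommRingCat.of A)} {pB : X' ⟶ Spec (CommRingCat.of B)} {φ : X' ⟶ X}

/-- global functions as a linear map -/
noncomputable def globalL (pA : X ⟶ Spec (CommRingCat.of A)) :
    letI := QCoh.secModule (Coh.toGlobal pA) (Coh.structureModule X) ⊤
    A →ₗ[A] Γ(Coh.structureModule X, ⊤) :=
  letI := QCoh.secModule (Coh.toGlobal pA) (Coh.structureModule X) ⊤
  LinearMap.toSpanSingleton A Γ(Coh.structureModule X, ⊤) (1 : Γ(X, ⊤))

theorem globalL_eq (pA : X ⟶ Spec (CommRingCat.of A)) :
    letI := QCoh.secModule (Coh.toGlobal pA) (Coh.structureModule X) ⊤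
    (globalL pA : A → Γ(Coh.structureModule X, ⊤)) =
      fun a => (show Γ(Coh.structureModule X, ⊤) from Coh.toGlobal pA a) := funext fun a => by
  show AModX.resR (le_rfl : (⊤ : X.Opens) ≤ ⊤) (Coh.toGlobal pA a) * (1 : Γ(X, ⊤)) = _
  rw [mul_one, AModX.resR_self]

theorem bijective_lTensor_global [Module.Flat A B] [CompactSpace X] [QuasiSeparatedSpace X]
    (h : IsPullback φ pB pA (Spec.map (CommRingCat.ofHom (algebraMap A B))))
    (hB : Function.Bijective (Coh.toGlobal pB)) :
    letI := QCoh.secModule (Coh.toGlobal pA) (Coh.structureModule X) ⊤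
    Function.Bijective ((globalL pA).lTensor B) := by
  let O := Coh.structureModule X
  letI := QCoh.secModule (Coh.toGlobal pA) O ⊤
  letI := QCoh.secModule (Coh.toGlobal pB) ((Scheme.Modules.pullback φ).obj O) (φ ⁻¹ᵁ ⊤)
  letI := QCoh.secModule ((Coh.toGlobal pB).comp (algebraMap A B)) ((Scheme.Modules.pullback φ).obj O) (φ ⁻¹ᵁ ⊤)
  haveI : IsScalarTower A B Γ((Scheme.Modules.pullback φ).obj O, φ ⁻¹ᵁ ⊤) := .of_algebraMap_smul fun _ _ => rfl
  obtain ⟨e, he, het⟩ := QSepBC24.bijective_lift h (InvX.isInvertible_structureModule (X := X))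
  let u : B → B ⊗[A] Γ(O, ⊤) := fun b => (globalL pA).lTensor B ((TensorProduct.rid A B).symm b)
  have hu : ∀ b, u b = b ⊗ₜ (show Γ(O, ⊤) from (1 : Γ(X, ⊤))) := fun b => by
    simp only [u, TensorProduct.rid_symm_apply, LinearMap.lTensor_tmul]
    exact congrArg (b ⊗ₜ[A] ·) (one_smul A (show Γ(Coh.structureModule X, ⊤) from (1 : Γ(X, ⊤))))
  have hfr := (InvX.isFrame_pullElt φ (InvX.isFrame_one (X := X) ⊤) (φ ⁻¹ᵁ ⊤) le_rfl)
  have h1 : Function.Bijective (fun b => e (u b)) := by
    convert hfr.comp hB using 1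
    funext b
    show e (u b) = _
    rw [hu, het]
    exact (congrArg _ (AModX.res_self _)).symm
  have h2 : Function.Bijective u := (Function.Bijective.of_comp_iff' he u).1 h1
  exact (Function.Bijective.of_comp_iff _ (TensorProduct.rid A B).symm.bijective).1 h2

end Groth.Agent.ParaDesc24
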