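import Groth.Agent.ParaDesc24.Reverse
import Groth.Agent.ParaFX.Functions

/-!
# Extension of functions across a closed subset descends along flat covers
-/

set_option autoImplicit false
set_option backward.isDefEq.respectTransparency false
set_option backward.isDefEq.respectTransparency.types false
set_option linter.style.haveILetI false

universe u

open CategoryTheory CategoryTheory.Limits AlgebraicGeometry TopologicalSpace

namespace Groth.Agent.ParaDesc24

theorem bijective_app_top_homOfLE_iff {X : Scheme.{u}} {U W : X.Opens} (e : U ≤ W) :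
    Function.Bijective ((X.homOfLE e).appTop) ↔
      Function.Bijective (X.presheaf.map (homOfLE e).op) := by
  rw [← ConcreteCategory.isIso_iff_bijective, ← ConcreteCategory.isIso_iff_bijective]
  have h : (X.homOfLE e).appTop ≫ U.topIso.hom = W.topIso.hom ≫ X.presheaf.map (homOfLE e).op := by
    rw [Scheme.Hom.appTop, Scheme.homOfLE_app, Scheme.Opens.topIso_hom, Scheme.Opens.topIso_hom]
    change X.presheaf.map _ ≫ X.presheaf.map _ = _
    rw [← X.presheaf.map_comp, ← X.presheaf.map_comp]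
    rfl
  refine (isIso_comp_right_iff (X.homOfLE e).appTop U.topIso.hom).symm.trans ?_
  rw [h]
  exact isIso_comp_left_iff _ _

theorem bijective_toGlobal_iff {Z : Scheme.{u}} {A : CommRingCat.{u}} (p : Z ⟶ Spec A) :
    Function.Bijective (Coh.toGlobal (A := A) p) ↔ Function.Bijective p.appTop := by
  exact Function.Bijective.of_comp_iff _ (ConcreteCategory.bijective_of_isIso (Scheme.ΓSpecIso A).inv)

theorem bijective_affine_of_flat_cover {X X' : Scheme.{u}} (f : X' ⟶ X) [Flat f] [Surjective f]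
    (U : X.Opens) [QuasiCompact U.ι]
    (h : ∀ V : X'.Opens, Function.Bijective (X'.presheaf.map (homOfLE (inf_le_left : V ⊓ f ⁻¹ᵁ U ≤ V)).op))
    (W : X.Opens) (hW : IsAffineOpen W) :
    Function.Bijective (X.presheaf.map (homOfLE (inf_le_left : W ⊓ U ≤ W)).op) := by
  have hWU : IsCompact ((W ⊓ U : X.Opens) : Set X) := by
    have h1 : IsCompact ((U.ι ⁻¹ᵁ W : (U : Scheme.{u}).Opens) : Set (U : Scheme.{u})) :=
      U.ι.isCompact_preimage hW.isCompact
    have h2 := h1.image U.ι.continuous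
    have e : U.ι.base '' ((U.ι ⁻¹ᵁ W : (U : Scheme.{u}).Opens) : Set (U : Scheme.{u})) =
        ((W ⊓ U : X.Opens) : Set X) := by
      apply Set.ext
      intro x
      exact ⟨by rintro ⟨⟨y, hy⟩, hy', rfl⟩; exact ⟨hy', hy⟩, fun hx => ⟨⟨x, hx.2⟩, hx.1, rfl⟩⟩
    exact e ▸ h2
  haveI : CompactSpace ↥(W ⊓ U : X.Opens).toScheme := isCompact_iff_compactSpace.mp hWU
  let pA : (W ⊓ U : X.Opens).toScheme ⟶ Spec (CommRingCat.of Γ(X, W)) :=
    X.homOfLE (inf_le_left : W ⊓ U ≤ W) ≫ hW.isoSpec.hom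
  haveI : QuasiSeparatedSpace ↥(W ⊓ U : X.Opens).toScheme := quasiSeparatedSpace_of_quasiSeparated pA
  -- the affine pieces upstairs
  let ι := {T : X'.Opens // IsAffineOpen T ∧ T ≤ f ⁻¹ᵁ W}
  let B : ι → Type u := fun T => Γ(X', T.1)
  letI : ∀ T : ι, Algebra Γ(X, W) (B T) := fun T => (f.appLE W T.1 T.2.2).hom.toAlgebra
  haveI : ∀ T : ι, Module.Flat Γ(X, W) (B T) := fun T => Flat.flat_appLE f hW T.2.1 T.2.2
  have hcov : ∀ p : PrimeSpectrum Γ(X, W), ∃ T : ι, ∃ q : PrimeSpectrum (B T),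
      PrimeSpectrum.comap (algebraMap Γ(X, W) (B T)) q = p := by
    intro p
    have hx : hW.fromSpec p ∈ W := hW.range_fromSpec.subset (Set.mem_range_self _)
    obtain ⟨x', hx'⟩ := f.surjective (hW.fromSpec p)
    have hx'W : x' ∈ f ⁻¹ᵁ W := by
      show f.base x' ∈ W
      rw [hx']; exact hx
    obtain ⟨T, hT, hxT, hTW⟩ := exists_isAffineOpen_mem_and_subset hx'W
    refine ⟨⟨T, hT, hTW⟩, hT.primeIdealOf ⟨x', hxT⟩, ?_⟩
    apply hW.fromSpec.isOpenEmbedding.injective
    have h1 := congrArg (fun g => g (hT.primeIdealOf ⟨x', hxT⟩))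
      (IsAffineOpen.SpecMap_appLE_fromSpec f hW hT hTW)
    simp only [Scheme.Hom.comp_base, TopCat.comp_app] at h1
    rw [hT.fromSpec_primeIdealOf, hx'] at h1
    exact h1
  have hl : ∀ T : ι, letI := QCoh.secModule (Coh.toGlobal pA) (Coh.structureModule _) ⊤
      Function.Bijective ((globalL pA).lTensor (B T)) := by
    intro T
    let pB : (T.1 ⊓ f ⁻¹ᵁ U : X'.Opens).toScheme ⟶ Spec (CommRingCat.of (B T)) :=
      X'.homOfLE (inf_le_left : T.1 ⊓ f ⁻¹ᵁ U ≤ T.1) ≫ T.2.1.isoSpec.hom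
    have hle : T.1 ⊓ f ⁻¹ᵁ U ≤ f ⁻¹ᵁ (W ⊓ U) := fun x hx => ⟨T.2.2 hx.1, hx.2⟩
    let φ : (T.1 ⊓ f ⁻¹ᵁ U : X'.Opens).toScheme ⟶ (W ⊓ U : X.Opens).toScheme :=
      f.resLE (W ⊓ U) (T.1 ⊓ f ⁻¹ᵁ U) hle
    have hsq : IsPullback φ (X'.homOfLE (inf_le_left : T.1 ⊓ f ⁻¹ᵁ U ≤ T.1))
        (X.homOfLE (inf_le_left : W ⊓ U ≤ W)) (f.resLE W T.1 T.2.2) := by
      refine IsOpenImmersion.isPullback _ _ _ _ ?_ ?_
      · rw [Scheme.Hom.resLE_map, Scheme.Hom.map_resLE]
      · apply TopologicalSpace.Opens.ext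
        rw [Scheme.Hom.coe_opensRange, TopologicalSpace.Opens.map_coe, Scheme.Hom.coe_opensRange]
        ext ⟨x, hx⟩
        constructor
        · rintro ⟨⟨y, hy⟩, hxy⟩
          have hxy' : y = f.base x := by
            have := congrArg (fun z => (W.ι.base z : X)) hxy
            simp only [← Scheme.Hom.comp_apply, Scheme.homOfLE_ι, Scheme.Hom.resLE_comp_ι] at this
            exact this
          subst hxy'
          exact ⟨⟨x, hx, hy.2⟩, Subtype.ext (Scheme.homOfLE_apply _ _)⟩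
        · rintro ⟨⟨y, hy⟩, hxy⟩
          have hxy' : y = x := (Scheme.homOfLE_apply _ _).symm.trans (congrArg Subtype.val hxy)
          subst hxy'
          refine ⟨⟨f.base y, T.2.2 hy.1, hy.2⟩, ?_⟩
          apply W.ι.isOpenEmbedding.injective
          simp only [← Scheme.Hom.comp_apply, Scheme.homOfLE_ι, Scheme.Hom.resLE_comp_ι]
          rfl
    have hsq2 : f.resLE W T.1 T.2.2 ≫ hW.isoSpec.hom =
        T.2.1.isoSpec.hom ≫ Spec.map (CommRingCat.ofHom (algebraMap Γ(X, W) (B T))) := by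
      rw [← cancel_mono hW.fromSpec, Category.assoc, Category.assoc, IsAffineOpen.isoSpec_hom_fromSpec,
        Scheme.Hom.resLE_comp_ι]
      show _ = T.2.1.isoSpec.hom ≫ Spec.map (f.appLE W T.1 T.2.2) ≫ hW.fromSpec
      rw [IsAffineOpen.SpecMap_appLE_fromSpec f hW T.2.1 T.2.2,
        IsAffineOpen.isoSpec_hom_fromSpec_assoc]
    have hpb : IsPullback φ pB pA (Spec.map (CommRingCat.ofHom (algebraMap Γ(X, W) (B T)))) :=
      hsq.paste_vert (IsPullback.of_vert_isIso ⟨hsq2⟩)
    refine bijective_lTensor_global hpb ?_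
    rw [bijective_toGlobal_iff, Scheme.Hom.comp_appTop]
    exact ((bijective_app_top_homOfLE_iff _).2 (h T.1)).comp
      (ConcreteCategory.bijective_of_isIso T.2.1.isoSpec.hom.appTop)
  letI := QCoh.secModule (Coh.toGlobal pA) (Coh.structureModule (W ⊓ U : X.Opens).toScheme) ⊤
  have hA := bijective_of_faithful_family (A := Γ(X, W))
    (M := Γ(Coh.structureModule (W ⊓ U : X.Opens).toScheme, ⊤)) (globalL pA) B hcov hl
  rw [globalL_eq] at hA
  have hA' : Function.Bijective pA.appTop := (bijective_toGlobal_iff pA).1 hA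
  rw [Scheme.Hom.comp_appTop] at hA'
  exact (bijective_app_top_homOfLE_iff _).1
    ((Function.Bijective.of_comp_iff _ (ConcreteCategory.bijective_of_isIso hW.isoSpec.hom.appTop)).1 hA')

theorem bijective_of_affine {X : Scheme.{u}} (U : X.Opens)
    (h : ∀ W : X.Opens, IsAffineOpen W → Function.Bijective (X.presheaf.map (homOfLE (inf_le_left : W ⊓ U ≤ W)).op))
    (W : X.Opens) : Function.Bijective (X.presheaf.map (homOfLE (inf_le_left : W ⊓ U ≤ W)).op) := by
  have sep : ∀ (W : X.Opens) (s t : Γ(X, W)),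
      X.presheaf.map (homOfLE (inf_le_left : W ⊓ U ≤ W)).op s = X.presheaf.map (homOfLE (inf_le_left : W ⊓ U ≤ W)).op t →
        s = t := by
    intro W s t hst
    refine X.sheaf.eq_of_locally_eq' (fun V : {V : X.affineOpens // (V : X.Opens) ≤ W} => (V.1 : X.Opens)) W
      (fun V => homOfLE V.2) (fun x hx => ?_) s t fun V => ?_
    · obtain ⟨V, hV, hxV, hVW⟩ := exists_isAffineOpen_mem_and_subset hx
      exact Opens.mem_iSup.2 ⟨⟨⟨V, hV⟩, hVW⟩, hxV⟩
    · refine (h _ V.1.2).1 ?_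
      show X.presheaf.map _ (X.presheaf.map (homOfLE V.2).op s) = X.presheaf.map _ (X.presheaf.map (homOfLE V.2).op t)
      rw [← ConcreteCategory.comp_apply, ← ConcreteCategory.comp_apply, ← X.presheaf.map_comp,
        Subsingleton.elim ((homOfLE V.2).op ≫ (homOfLE (inf_le_left : (V.1 : X.Opens) ⊓ U ≤ _)).op)
          ((homOfLE (inf_le_left : W ⊓ U ≤ W)).op ≫ (homOfLE (inf_le_inf_right U V.2)).op),
        X.presheaf.map_comp, ConcreteCategory.comp_apply, ConcreteCategory.comp_apply, hst]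
  refine ⟨fun s t h => sep W s t h, fun s => ?_⟩
  let ι := {V : X.affineOpens // (V : X.Opens) ≤ W}
  choose g hg using fun V : ι => (h _ V.1.2).2
    (X.presheaf.map (homOfLE (inf_le_inf_right U V.2)).op s)
  have hcompat : TopCat.Presheaf.IsCompatible X.sheaf.presheaf (fun V : ι => (V.1 : X.Opens)) g := by
    intro V V'
    refine sep _ _ _ ?_
    show X.presheaf.map _ (X.presheaf.map _ (g V)) = X.presheaf.map _ (X.presheaf.map _ (g V'))
    have key : ∀ (V : ι) (O : X.Opens) (hO : O ≤ V.1) (hO' : O ≤ U) ,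
        X.presheaf.map (homOfLE hO).op (g V) = X.presheaf.map (homOfLE (le_inf (hO.trans V.2) hO')).op s := by
      intro V O hO hO'
      rw [Subsingleton.elim (homOfLE hO).op ((homOfLE (inf_le_left : (V.1 : X.Opens) ⊓ U ≤ _)).op ≫ (homOfLE (le_inf hO hO')).op),
        X.presheaf.map_comp, ConcreteCategory.comp_apply, hg, ← ConcreteCategory.comp_apply, ← X.presheaf.map_comp]
      rfl
    rw [← ConcreteCategory.comp_apply, ← ConcreteCategory.comp_apply, ← X.presheaf.map_comp, ← X.presheaf.map_comp]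
    exact (key V _ (inf_le_left.trans inf_le_left) inf_le_right).trans
      (key V' _ (inf_le_left.trans inf_le_right) inf_le_right).symm
  have hcover : W ≤ iSup (fun V : ι => (V.1 : X.Opens)) := fun x hx => by
    obtain ⟨V, hV, hxV, hVW⟩ := exists_isAffineOpen_mem_and_subset hx
    exact Opens.mem_iSup.2 ⟨⟨⟨V, hV⟩, hVW⟩, hxV⟩
  obtain ⟨t, ht, -⟩ := X.sheaf.existsUnique_gluing' (fun V : ι => (V.1 : X.Opens)) W (fun V => homOfLE V.2) hcover g hcompat
  refine ⟨t, X.sheaf.eq_of_locally_eq' (fun V : ι => (V.1 : X.Opens) ⊓ U) (W ⊓ U)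
    (fun V => homOfLE (inf_le_inf_right U V.2)) (fun x hx => ?_) _ _ fun V => ?_⟩
  · obtain ⟨V, hxV⟩ := Opens.mem_iSup.1 (hcover hx.1)
    exact Opens.mem_iSup.2 ⟨V, hxV, hx.2⟩
  · show X.presheaf.map _ (X.presheaf.map _ t) = X.presheaf.map _ s
    refine Eq.trans ?_ (hg V)
    have key2 : ∀ t' : Γ(X, W), X.presheaf.map (homOfLE (inf_le_inf_right U V.2)).op
          (X.presheaf.map (homOfLE (inf_le_left : W ⊓ U ≤ W)).op t') =
        X.presheaf.map (homOfLE (inf_le_left : (V.1 : X.Opens) ⊓ U ≤ _)).op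
          (X.presheaf.map (homOfLE V.2).op t') := fun t' => by
      rw [← ConcreteCategory.comp_apply, ← ConcreteCategory.comp_apply, ← X.presheaf.map_comp, ← X.presheaf.map_comp]
      rfl
    exact (key2 t).trans (congrArg _ (ht V))

end Groth.Agent.ParaDesc24
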